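import Cfsg.Agent.Spor.Tic.D0

set_option autoImplicit false
set_option maxRecDepth 100000000
set_option Elab.async false

namespace Cfsg.Agent.Spor.Tic

theorem ok0 : Net.okb 3 n0 = true := by decide +kernel

theorem ok1 : Net.okb 3 n1 = true := by decide +kernel

theorem ok2 : Net.okb 3 n2 = true := by decide +kernel

theorem ok3 : Net.okb 3 n3 = true := by decide +kernel

theorem ok4 : Net.okb 3 n4 = true := by decide +kernel

theorem rel0 : T.rel 3 [5, 1, 1, 2, 3] 0 3 = true := by decide +kernel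

theorem rel1 : T.rel 3 [7, 1, 2, 3, 4] 0 3 = true := by decide +kernel

theorem rel2 : T.rel 3 [9, 2, 2, 1, 4] 0 3 = true := by decide +kernel

theorem rel3 : T.rel 3 [5, 5, 5, 5] 0 3 = true := by decide +kernel

theorem rel4 : T.rel 3 [5, 5, 7, 9, 7, 9] 0 3 = true := by decide +kernel

theorem rel5 : T.rel 3 [5, 5, 7, 10, 7, 10] 0 3 = true := by decide +kernel

theorem rel6 : T.rel 3 [5, 9, 6, 7, 10, 8] 0 3 = true := by decide +kernel

theorem rel7 : T.rel 3 [7, 7, 7, 7] 0 3 = true := by decide +kernel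

theorem rel8 : T.rel 3 [5, 8, 9, 7, 6, 10] 0 3 = true := by decide +kernel

theorem rel9 : T.rel 3 [5, 7, 10, 5, 7, 10] 0 3 = true := by decide +kernel

theorem rel10 : T.rel 3 [9, 9, 9, 9] 0 3 = true := by decide +kernel

theorem rel11 : T.rel 3 [3, 2, 3, 3, 7, 9, 7] 0 3 = true := by decide +kernel

theorem rel12 : T.rel 3 [1, 1, 1, 1] 0 3 = true := by decide +kernel

theorem rel13 : T.rel 3 [2, 2, 2, 2] 0 3 = true := by decide +kernel

theorem hcov : T.treeCov (ones 8) L 1 = true := by decide +kernel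

theorem hg : lall (fun z => band (memL L z) (band (sub (ones 8) (T.let z).cl) (T.closed (ones 8) z))) gs = true := by decide +kernel

theorem rot1_1 : T.rot 1 [3] (sel (ones 8) ip1 1) = true := by decide +kernel

theorem rot1_1r : band (Rule.ok (2 * 0) EX RL ⟨1 :: [3], [], 11, false⟩) (lall (memL L) [3]) = true := by decide +kernel

theorem rot1_2 : T.rot 1 [1, 1, 1] (sel (ones 8) ip1 2) = true := by decide +kernel

theorem rot1_2r : band (Rule.ok (2 * 0) EX RL ⟨1 :: [1, 1, 1], [], 9, true⟩) (lall (memL L) [1, 1, 1]) = true := by decide +kernel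

theorem rot1_3 : T.rot 1 [4, 3, 8, 2] (sel (ones 8) ip1 3) = true := by decide +kernel

theorem rot1_3r : band (Rule.ok (2 * 0) EX RL ⟨1 :: [4, 3, 8, 2], [], 11, false⟩) (lall (memL L) [4, 3, 8, 2]) = true := by decide +kernel

theorem rot1_4 : T.rot 1 [4, 9, 2, 2] (sel (ones 8) ip1 4) = true := by decide +kernel

theorem rot1_4r : band (Rule.ok (2 * 0) EX RL ⟨1 :: [4, 9, 2, 2], [], 11, false⟩) (lall (memL L) [4, 9, 2, 2]) = true := by decide +kernel

theorem rot1_5 : T.rot 1 [1, 4, 1, 8, 10, 8] (sel (ones 8) ip1 5) = true := by decide +kernel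

theorem rot1_5r : band (Rule.ok (2 * 0) EX RL ⟨1 :: [1, 4, 1, 8, 10, 8], [0, 3, 0, 0], 8, false⟩) (lall (memL L) [1, 4, 1, 8, 10, 8]) = true := by decide +kernel

theorem rot1_6 : T.rot 1 [4, 1, 8, 10, 8, 1] (sel (ones 8) ip1 6) = true := by decide +kernel

theorem rot1_6r : band (Rule.ok (2 * 0) EX RL ⟨1 :: [4, 1, 8, 10, 8, 1], [0, 3, 0], 8, false⟩) (lall (memL L) [4, 1, 8, 10, 8, 1]) = true := by decide +kernel

theorem cov1 : T.cover 1 [(sel (ones 8) ip1 1), (sel (ones 8) ip1 2), (sel (ones 8) ip1 3), (sel (ones 8) ip1 4), (sel (ones 8) ip1 5), (sel (ones 8) ip1 6)] = true := by decide +kernel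

theorem tl1 : T.treeLt 3 1 = true := by decide +kernel

theorem rot2_1 : T.rot 2 [4] (sel (ones 8) ip2 1) = true := by decide +kernel

theorem rot2_1r : band (Rule.ok (2 * 0) EX RL ⟨2 :: [4], [], 11, false⟩) (lall (memL L) [4]) = true := by decide +kernel

theorem rot2_2 : T.rot 2 [2, 2, 2] (sel (ones 8) ip2 2) = true := by decide +kernel

theorem rot2_2r : band (Rule.ok (2 * 0) EX RL ⟨2 :: [2, 2, 2], [], 10, true⟩) (lall (memL L) [2, 2, 2]) = true := by decide +kernel

theorem rot2_3 : T.rot 2 [3, 5, 1, 1] (sel (ones 8) ip2 3) = true := by decide +kernel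

theorem rot2_3r : band (Rule.ok (2 * 0) EX RL ⟨2 :: [3, 5, 1, 1], [], 11, false⟩) (lall (memL L) [3, 5, 1, 1]) = true := by decide +kernel

theorem rot2_4 : T.rot 2 [3, 3, 7, 9, 7, 3] (sel (ones 8) ip2 4) = true := by decide +kernel

theorem rot2_4r : band (Rule.ok (2 * 0) EX RL ⟨2 :: [3, 3, 7, 9, 7, 3], [0], 8, true⟩) (lall (memL L) [3, 3, 7, 9, 7, 3]) = true := by decide +kernel

theorem cov2 : T.cover 2 [(sel (ones 8) ip2 1), (sel (ones 8) ip2 2), (sel (ones 8) ip2 3), (sel (ones 8) ip2 4)] = true := by decide +kernel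

theorem tl2 : T.treeLt 3 2 = true := by decide +kernel

theorem rot3_1 : T.rot 3 [1] (sel (ones 8) ip3 1) = true := by decide +kernel

theorem rot3_1r : band (Rule.ok (2 * 0) EX RL ⟨3 :: [1], [], 11, false⟩) (lall (memL L) [1]) = true := by decide +kernel

theorem rot3_2 : T.rot 3 [3, 3, 3] (sel (ones 8) ip3 2) = true := by decide +kernel

theorem rot3_2r : band (Rule.ok (2 * 0) EX RL ⟨3 :: [3, 3, 3], [], 9, false⟩) (lall (memL L) [3, 3, 3]) = true := by decide +kernel

theorem rot3_3 : T.rot 3 [4, 7, 1, 2] (sel (ones 8) ip3 3) = true := by decide +kernel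

theorem rot3_3r : band (Rule.ok (2 * 0) EX RL ⟨3 :: [4, 7, 1, 2], [], 11, false⟩) (lall (memL L) [4, 7, 1, 2]) = true := by decide +kernel

theorem rot3_4 : T.rot 3 [4, 4, 10, 2] (sel (ones 8) ip3 4) = true := by decide +kernel

theorem rot3_4r : band (Rule.ok (2 * 0) EX RL ⟨3 :: [4, 4, 10, 2], [], 11, false⟩) (lall (memL L) [4, 4, 10, 2]) = true := by decide +kernel

theorem rot3_5 : T.rot 3 [3, 7, 9, 7, 3, 2] (sel (ones 8) ip3 5) = true := by decide +kernel

theorem rot3_5r : band (Rule.ok (2 * 0) EX RL ⟨3 :: [3, 7, 9, 7, 3, 2], [0, 3], 8, true⟩) (lall (memL L) [3, 7, 9, 7, 3, 2]) = true := by decide +kernel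

theorem rot3_6 : T.rot 3 [7, 9, 7, 3, 2, 3] (sel (ones 8) ip3 6) = true := by decide +kernel

theorem rot3_6r : band (Rule.ok (2 * 0) EX RL ⟨3 :: [7, 9, 7, 3, 2, 3], [0, 3, 0], 8, true⟩) (lall (memL L) [7, 9, 7, 3, 2, 3]) = true := by decide +kernel

theorem cov3 : T.cover 3 [(sel (ones 8) ip3 1), (sel (ones 8) ip3 2), (sel (ones 8) ip3 3), (sel (ones 8) ip3 4), (sel (ones 8) ip3 5), (sel (ones 8) ip3 6)] = true := by decide +kernel

theorem tl3 : T.treeLt 3 3 = true := by decide +kernel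

theorem rot4_1 : T.rot 4 [2] (sel (ones 8) ip4 1) = true := by decide +kernel

theorem rot4_1r : band (Rule.ok (2 * 0) EX RL ⟨4 :: [2], [], 11, false⟩) (lall (memL L) [2]) = true := by decide +kernel

theorem rot4_2 : T.rot 4 [4, 4, 4] (sel (ones 8) ip4 2) = true := by decide +kernel

theorem rot4_2r : band (Rule.ok (2 * 0) EX RL ⟨4 :: [4, 4, 4], [], 10, false⟩) (lall (memL L) [4, 4, 4]) = true := by decide +kernel

theorem rot4_3 : T.rot 4 [3, 3, 6, 1] (sel (ones 8) ip4 3) = true := by decide +kernel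

theorem rot4_3r : band (Rule.ok (2 * 0) EX RL ⟨4 :: [3, 3, 6, 1], [], 11, false⟩) (lall (memL L) [3, 3, 6, 1]) = true := by decide +kernel

theorem rot4_4 : T.rot 4 [1, 8, 10, 8, 1, 1] (sel (ones 8) ip4 4) = true := by decide +kernel

theorem rot4_4r : band (Rule.ok (2 * 0) EX RL ⟨4 :: [1, 8, 10, 8, 1, 1], [0, 3], 8, false⟩) (lall (memL L) [1, 8, 10, 8, 1, 1]) = true := by decide +kernel

theorem cov4 : T.cover 4 [(sel (ones 8) ip4 1), (sel (ones 8) ip4 2), (sel (ones 8) ip4 3), (sel (ones 8) ip4 4)] = true := by decide +kernel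

theorem tl4 : T.treeLt 3 4 = true := by decide +kernel

theorem cov5 : T.cover 5 [1] = true := by decide +kernel

theorem tl5 : Nat.beq (T.let 5).tt 0 = true := by decide +kernel

theorem rot6_1 : T.rot 6 [5] (sel (ones 8) ip6 1) = true := by decide +kernel

theorem rot6_1r : band (Rule.ok (2 * 0) EX RL ⟨6 :: [5], [], 11, false⟩) (lall (memL L) [5]) = true := by decide +kernel

theorem cov6 : T.cover 6 [(sel (ones 8) ip6 1)] = true := by decide +kernel

theorem tl6 : Nat.beq (T.let 6).tt 0 = true := by decide +kernel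

theorem rot7_1 : T.rot 7 [1, 2, 3, 4] (sel (ones 8) ip7 1) = true := by decide +kernel

theorem rot7_1r : band (Rule.ok (2 * 0) EX RL ⟨7 :: [1, 2, 3, 4], [], 11, false⟩) (lall (memL L) [1, 2, 3, 4]) = true := by decide +kernel

theorem cov7 : T.cover 7 [(sel (ones 8) ip7 1), 1] = true := by decide +kernel

theorem tl7 : Nat.beq (T.let 7).tt 0 = true := by decide +kernel

theorem rot8_1 : T.rot 8 [7] (sel (ones 8) ip8 1) = true := by decide +kernel

theorem rot8_1r : band (Rule.ok (2 * 0) EX RL ⟨8 :: [7], [], 11, false⟩) (lall (memL L) [7]) = true := by decide +kernel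

theorem rot8_2 : T.rot 8 [2, 1, 4, 3] (sel (ones 8) ip8 2) = true := by decide +kernel

theorem rot8_2r : band (Rule.ok (2 * 0) EX RL ⟨8 :: [2, 1, 4, 3], [], 11, false⟩) (lall (memL L) [2, 1, 4, 3]) = true := by decide +kernel

theorem cov8 : T.cover 8 [(sel (ones 8) ip8 1), (sel (ones 8) ip8 2)] = true := by decide +kernel

theorem tl8 : Nat.beq (T.let 8).tt 0 = true := by decide +kernel

theorem rot9_1 : T.rot 9 [2, 2, 1, 4] (sel (ones 8) ip9 1) = true := by decide +kernel

theorem rot9_1r : band (Rule.ok (2 * 0) EX RL ⟨9 :: [2, 2, 1, 4], [], 11, false⟩) (lall (memL L) [2, 2, 1, 4]) = true := by decide +kernel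

theorem cov9 : T.cover 9 [(sel (ones 8) ip9 1), 1] = true := by decide +kernel

theorem tl9 : Nat.beq (T.let 9).tt 0 = true := by decide +kernel

theorem rot10_1 : T.rot 10 [9] (sel (ones 8) ip10 1) = true := by decide +kernel

theorem rot10_1r : band (Rule.ok (2 * 0) EX RL ⟨10 :: [9], [], 11, false⟩) (lall (memL L) [9]) = true := by decide +kernel

theorem rot10_2 : T.rot 10 [2, 3, 4, 4] (sel (ones 8) ip10 2) = true := by decide +kernel

theorem rot10_2r : band (Rule.ok (2 * 0) EX RL ⟨10 :: [2, 3, 4, 4], [], 11, false⟩) (lall (memL L) [2, 3, 4, 4]) = true := by decide +kernel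

theorem cov10 : T.cover 10 [(sel (ones 8) ip10 1), (sel (ones 8) ip10 2)] = true := by decide +kernel

theorem tl10 : Nat.beq (T.let 10).tt 0 = true := by decide +kernel

end Cfsg.Agent.Spor.Tic
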