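import Cfsg.Agent.Spor.Chk

set_option autoImplicit false
set_option maxRecDepth 100000000
set_option Elab.async false
noncomputable section

namespace Cfsg.Agent.Spor.Tic

def m0_0 : Nat := nat_lit 0x4
def m0_1 : Nat := nat_lit 0x41
def m0_2 : Nat := nat_lit 0x12
def m0_3 : Nat := nat_lit 0x2
def n0 : Net := Net.cons 4 m0_0 (Net.cons 1 m0_1 (Net.cons 2 m0_2 (Net.cons 4 m0_3 (Net.nil))))

def m1_0 : Nat := nat_lit 0xe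
def m1_1 : Nat := nat_lit 0x10
def m1_2 : Nat := nat_lit 0x44
def m1_3 : Nat := nat_lit 0x2
def m1_4 : Nat := nat_lit 0x1
def n1 : Net := Net.cons 4 m1_0 (Net.cons 2 m1_1 (Net.cons 1 m1_2 (Net.cons 2 m1_3 (Net.cons 4 m1_4 (Net.nil)))))

def m2_0 : Nat := nat_lit 0x20
def m2_1 : Nat := nat_lit 0x4
def n2 : Net := Net.cons 2 m2_0 (Net.cons 1 m2_1 (Net.nil))

def m3_0 : Nat := nat_lit 0x1
def m3_1 : Nat := nat_lit 0x5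
def m3_2 : Nat := nat_lit 0x1
def n3 : Net := Net.cons 4 m3_0 (Net.cons 1 m3_1 (Net.cons 4 m3_2 (Net.nil)))

def m4_0 : Nat := nat_lit 0x1
def m4_1 : Nat := nat_lit 0x20
def m4_2 : Nat := nat_lit 0x1
def m4_3 : Nat := nat_lit 0x1
def n4 : Net := Net.cons 4 m4_0 (Net.cons 2 m4_1 (Net.cons 1 m4_2 (Net.cons 4 m4_3 (Net.nil))))

def ip1 : List Nat := [0x1c, 0x64, 0xd0]
def l1 : Let := ⟨0, false, 0xff, 0x22, [0x48, 0xa4, 0x50]⟩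

def ip2 : List Nat := [0x30, 0xe0, 0x8]
def l2 : Let := ⟨1, false, 0xff, 0xc4, [0x50, 0xe8, 0x0]⟩

def ip3 : List Nat := [0x72, 0xc8, 0x94]
def l3 : Let := ⟨0, true, 0xff, 0x8, [0x32, 0x4c, 0x90]⟩

def ip4 : List Nat := [0xc6, 0x1a, 0x20]
def l4 : Let := ⟨1, true, 0xff, 0x10, [0xcc, 0x3a, 0x0]⟩

def ip5 : List Nat := []
def l5 : Let := ⟨2, false, 0x1, 0x0, [0x0, 0x0, 0x0]⟩

def ip6 : List Nat := [0x1]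
def l6 : Let := ⟨2, true, 0x1, 0x0, [0x1, 0x0, 0x0]⟩

def ip7 : List Nat := [0x1c]
def l7 : Let := ⟨3, false, 0x1d, 0x0, [0x14, 0x14, 0x8]⟩

def ip8 : List Nat := [0x1, 0xe]
def l8 : Let := ⟨3, true, 0xf, 0x0, [0xb, 0xa, 0x4]⟩

def ip9 : List Nat := [0xa]
def l9 : Let := ⟨4, false, 0xb, 0x0, [0xa, 0xa, 0x0]⟩

def ip10 : List Nat := [0x1, 0x18]
def l10 : Let := ⟨4, true, 0x19, 0x0, [0x19, 0x18, 0x0]⟩

def NT : List Net := [n0, n1, n2, n3, n4]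
def LT : List Let := [⟨0, false, 0, 0, []⟩, l1, l2, l3, l4, l5, l6, l7, l8, l9, l10]
def T : Tab := ⟨NT, LT⟩
def EX : List (List Nat) := [[], [0], [2], [1], [3], [1, 1, 3, 0], [1, 2, 0, 0], [1, 3, 0, 2], [3, 1, 2, 0], [3, 3, 1, 2], [3, 0, 2, 2]]
def RL : List (List Nat) := [[1, 1, 3, 1, 3, 1, 3, 1, 3, 0], [3, 3, 1, 2, 1, 3, 0, 3, 1, 2, 1, 3, 0, 2, 1, 1, 3, 1, 3, 0], [3, 0, 2, 2, 1, 3, 0, 0, 2, 2, 1, 3, 0, 2, 1, 1, 3, 1, 3, 0], [3, 1, 2, 0, 3, 0, 2, 2, 1, 3, 0, 2, 1, 2, 0, 0, 3, 3, 1, 2, 1, 1, 3, 0], [1, 3, 0, 2, 1, 3, 0, 2, 1, 3, 0, 2, 1, 3, 0, 2], [3, 0, 2, 2, 1, 2, 0, 3, 0, 3, 1, 1, 2, 1, 3, 0], [3, 0, 2, 2, 1, 3, 0, 2, 1, 1, 3, 0, 3, 0, 2, 2, 1, 3, 0, 2, 1, 1, 3, 0], [3, 3, 1, 3, 1, 3, 1, 3, 1, 2], [1, 3, 0, 3, 1, 2, 1, 3, 0, 2, 1, 1, 2, 1], [0, 0, 0, 0], [2, 2, 2, 2]]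
def XL : List (List Nat) := []
def BW : List (List Nat) := [[1, 1, 3, 0], [1, 3, 0, 2], [3, 3, 1, 2]]
def IV : Nat := 0x90a070805060201040300
def L : List Nat := [1, 2, 3, 4, 5, 6, 7, 8, 9, 10]
def gs : List Nat := [1, 2]
def base : List Nat := [5, 7, 9]

end Cfsg.Agent.Spor.Tic
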